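import Mathlib.AlgebraicGeometry.Sites.BigZariski
import Mathlib.AlgebraicGeometry.Limits
import Mathlib.CategoryTheory.Sites.Canonical
import Mathlib.CategoryTheory.Sites.Over
import Mathlib.AlgebraicGeometry.Morphisms.QuasiCompact
import Mathlib.CategoryTheory.Limits.Constructions.Over.Basic

/-!
Sheaves for the topology generated by a class of quasi-compact morphisms and Zariski covers.
-/

set_option autoImplicit false
set_option backward.isDefEq.respectTransparency.types false
universe v u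
open CategoryTheory CategoryTheory.Limits AlgebraicGeometry

namespace Groth.Agent.ClassTopology

variable {S : Scheme.{u}}

/-- A sieve containing the members of an open cover is a Zariski covering. -/
theorem mem_zariski_over {X : Over S} (R : Sieve X) (𝒰 : Scheme.OpenCover.{u} X.left)
    (h : ∀ i, R (Over.homMk (𝒰.f i) rfl : Over.mk (𝒰.f i ≫ X.hom) ⟶ X)) :
    R ∈ Scheme.zariskiTopology.over S X := by
  rw [GrothendieckTopology.mem_over_iff]
  refine GrothendieckTopology.superset_covering _ ?_ 𝒰.mem_grothendieckTopology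
  rw [Sieve.generate_le_iff]
  rintro _ _ ⟨i⟩
  exact (Sieve.overEquiv_iff _ _).2 (h i)

variable (S) in
theorem result (C : MorphismProperty Scheme.{u}) [C.IsStableUnderBaseChange]
    (hqc : ∀ {A B : Scheme.{u}} (f : A ⟶ B), C f → QuasiCompact f)
    (haff : ∀ (U : Scheme.{u}) [IsAffine U] (κ : Type u) [Finite κ] (V : κ → U.Opens),
      (∀ j, IsAffineOpen (V j)) → ⨆ j, V j = ⊤ → C (Limits.Sigma.desc fun j => (V j).ι))
    (hres : ∀ (W X' : Scheme.{u}) [IsAffine W] (f : X' ⟶ W), C f →
      ∀ (κ : Type u) [Finite κ] (A : κ → X'.Opens), (∀ l, IsAffineOpen (A l)) → ⨆ l, A l = ⊤ →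
        C (Limits.Sigma.desc fun l => (A l).ι ≫ f))
    (J : GrothendieckTopology (Over S))
    (hJ : ∀ (X : Over S) (R : Sieve X), R ∈ J X ↔
      ∃ (ι : Type u) (U : ι → X.left.Opens), (∀ i, IsAffineOpen (U i)) ∧ ⨆ i, U i = ⊤ ∧
        ∀ i, ∃ (κ : Type u) (_ : Finite κ) (V : κ → Over S) (φ : ∀ j, V j ⟶ X)
          (ψ : ∀ j, (V j).left ⟶ (U i : Scheme.{u})),
          (∀ j, IsAffine (V j).left) ∧ (∀ j, R.arrows (φ j)) ∧ (∀ j, ψ j ≫ (U i).ι = (φ j).left) ∧
            C (Limits.Sigma.desc ψ))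
    (F : (Over S)ᵒᵖ ⥤ Type v) :
    Presieve.IsSheaf J F ↔
      (Presieve.IsSheaf (Scheme.zariskiTopology.over S) F ∧
        ∀ (X X' : Over S) (f : X' ⟶ X), C f.left → Presieve.IsSheafFor F (Presieve.singleton f)) := by
  constructor
  · intro hF
    refine ⟨fun X R hR => hF R ?_, fun X X' f hf => ?_⟩
    · rw [GrothendieckTopology.mem_over_iff, Scheme.zariskiTopology_eq] at hR
      obtain ⟨R', hR', hle⟩ := hR
      have hs := (Presieve.mem_comap_jointlySurjectivePrecoverage_iff Scheme.forget).1 hR'.1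
      choose W g hg hx using hs
      have hex : ∀ x : X.left, ∃ U : X.left.Opens, IsAffineOpen U ∧ x ∈ U ∧
          (U : Set X.left) ⊆ Set.range (g x) := fun x => by
        haveI : IsOpenImmersion (g x) := hR'.2 (hg x)
        obtain ⟨_, ⟨U, hU, rfl⟩, hxU, hUle⟩ := X.left.isBasis_affineOpens.exists_subset_of_mem_open
          (show x ∈ Set.range (g x) from hx x) (g x).opensRange.2
        exact ⟨U, hU, hxU, hUle⟩
      choose U hU hxU hUr using hex
      rw [hJ]
      refine ⟨X.left, U, hU, top_le_iff.1 fun x _ => TopologicalSpace.Opens.mem_iSup.2 ⟨x, hxU x⟩, fun x => ?_⟩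
      haveI : IsAffine (U x).toScheme := hU x
      haveI : IsOpenImmersion (g x) := hR'.2 (hg x)
      let t : (⊤ : (U x).toScheme.Opens).toScheme ⟶ X.left := (⊤ : (U x).toScheme.Opens).ι ≫ (U x).ι
      refine ⟨PUnit, inferInstance, fun _ => Over.mk (t ≫ X.hom), fun _ => Over.homMk t rfl,
        fun _ => (⊤ : (U x).toScheme.Opens).ι, fun _ => isAffineOpen_top _, fun _ => ?_, fun _ => rfl,
        haff (U x) PUnit (fun _ => ⊤) (fun _ => isAffineOpen_top _) (by simp)⟩
      have hr : Set.range t ⊆ Set.range (g x) := by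
        rintro _ ⟨a, rfl⟩
        exact hUr x ((⊤ : (U x).toScheme.Opens).ι a).2
      have e : Sieve.overEquiv X R t := by
        rw [← IsOpenImmersion.lift_fac (g x) t hr]
        exact (Sieve.overEquiv X R).downward_closed (hle _ _ (hg x)) _
      exact (Sieve.overEquiv_iff _ _).1 e
    · refine (Presieve.isSheafFor_iff_generate _).2 (hF _ ((hJ X _).2 ?_))
      refine ⟨X.left.affineOpens, fun U => U.1, fun U => U.2, iSup_affineOpens_eq_top _, fun U => ?_⟩
      haveI : IsAffine U.1.toScheme := U.2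
      have hf' : C (pullback.snd f.left U.1.ι) := C.pullback_snd _ _ hf
      haveI := hqc _ hf'
      haveI : CompactSpace ↥(pullback f.left U.1.ι) :=
        QuasiCompact.compactSpace_of_compactSpace (pullback.snd f.left U.1.ι)
      obtain ⟨s, hs⟩ := isCompact_univ.elim_finite_subcover
        (fun A : (pullback f.left U.1.ι).affineOpens => (A.1 : Set ↥(pullback f.left U.1.ι))) (fun A => A.1.2)
        (fun x _ => by
          have := (iSup_affineOpens_eq_top (pullback f.left U.1.ι)).ge (show x ∈ (⊤ : (pullback f.left U.1.ι).Opens) from trivial)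
          obtain ⟨A, hA⟩ := TopologicalSpace.Opens.mem_iSup.1 this
          exact Set.mem_iUnion.2 ⟨A, hA⟩)
      let ψ (A : {A // A ∈ s}) : A.1.1.toScheme ⟶ U.1.toScheme := A.1.1.ι ≫ pullback.snd f.left U.1.ι
      refine ⟨{A // A ∈ s}, inferInstance, fun A => Over.mk ((ψ A ≫ U.1.ι) ≫ X.hom),
        fun A => Over.homMk (ψ A ≫ U.1.ι) rfl, ψ, fun A => A.1.2, fun A => ?_, fun _ => rfl,
        hres _ _ _ hf' _ (fun A : {A // A ∈ s} => A.1.1) (fun A => A.1.2) (top_le_iff.1 fun x _ => ?_)⟩
      · refine ⟨X', Over.homMk (A.1.1.ι ≫ pullback.fst f.left U.1.ι) ?_, f, Presieve.singleton_self _,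
          Over.OverMorphism.ext ?_⟩
        · simp only [ψ, Over.mk_hom, Category.assoc]
          rw [← Over.w f, pullback.condition_assoc]
        · simp [ψ, pullback.condition]
      · obtain ⟨A, hA, hxA⟩ := Set.mem_iUnion₂.1 (hs (Set.mem_univ x))
        exact TopologicalSpace.Opens.mem_iSup.2 ⟨⟨A, hA⟩, hxA⟩
  · rintro ⟨hZ, hC⟩
    let K := Sheaf.finestTopology ({F} : Set _)
    have hZK : Scheme.zariskiTopology.over S ≤ K :=
      Sheaf.le_finestTopology _ _ fun P hP => Set.mem_singleton_iff.1 hP ▸ hZ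
    suffices h : J ≤ K from fun X R hR => Sheaf.sheaf_for_finestTopology (Ps := ({F} : Set _)) (Set.mem_singleton F) R (h X hR)
    intro X R hR
    obtain ⟨ι, U, hU, hUcov, hd⟩ := (hJ X R).1 hR
    let 𝒰 := X.left.openCoverOfIsOpenCover U hUcov
    let u (i : ι) : Over.mk ((U i).ι ≫ X.hom) ⟶ X := Over.homMk (U i).ι rfl
    refine K.transitive (S := Sieve.ofArrows _ u)
      (hZK _ (mem_zariski_over _ 𝒰 fun i => Sieve.ofArrows_mk _ u i)) R ?_
    rintro Y g ⟨_, k, _, ⟨i⟩, rfl⟩
    rw [Sieve.pullback_comp]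
    refine K.pullback_stable k ?_
    obtain ⟨κ, hκ, V, φ, ψ, hV, hR', hψ, hCψ⟩ := hd i
    let d : Over.mk (Limits.Sigma.desc ψ ≫ (U i).ι ≫ X.hom) ⟶ Over.mk ((U i).ι ≫ X.hom) :=
      Over.homMk (Limits.Sigma.desc ψ) rfl
    have hdK : Sieve.generate (Presieve.singleton d) ∈ K (Over.mk ((U i).ι ≫ X.hom)) := by
      refine Sheaf.mem_finestTopology_of_forall_isSheafFor fun P hP Z g => ?_
      rw [Set.mem_singleton_iff.1 hP, ← Sieve.pullbackArrows_comm, Presieve.pullback_singleton,
        ← Presieve.isSheafFor_iff_generate]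
      refine hC _ _ _ ?_
      exact C.of_isPullback ((IsPullback.of_hasPullback d g).map (Over.forget S)) hCψ
    refine K.transitive hdK _ ?_
    rintro Y g ⟨_, k, _, ⟨⟩, rfl⟩
    rw [Sieve.pullback_comp]
    refine K.pullback_stable k (hZK _ (mem_zariski_over _ (sigmaOpenCover fun j => (V j).left) fun j => ?_))
    have e := R.downward_closed (hR' j) (Over.homMk (𝟙 _) (by
      have := Over.w (φ j)
      rw [← hψ j] at this
      simp [← this]) : Over.mk (Sigma.ι (fun j => (V j).left) j ≫ Limits.Sigma.desc ψ ≫ (U i).ι ≫ X.hom) ⟶ V j)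
    refine (iff_of_eq (congrArg (R.arrows ·) ?_)).1 e
    exact Over.OverMorphism.ext (by
      simp [d, u]
      first
      | exact (hψ j).symm.trans (by rw [← Category.assoc, Sigma.ι_desc])
      | (erw [← Category.assoc, Sigma.ι_desc]; exact (hψ j).symm))

end Groth.Agent.ClassTopology
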